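import Groth.Agent.H19Grp.HomFlatOpen
import Groth.Agent.H19Grp.KernelGrp
import Groth.Agent.H19Grp.FrobPow
import Groth.Agent.H19Grp.Cartier
import Groth.Agent.H06GenSub.MonoAffine
import Groth.Agent.S18320

/-!
# Homomorphisms of commutative affine groups detected by finite subgroups and geometric points
-/

set_option autoImplicit false
set_option maxHeartbeats 800000
set_option linter.style.haveILetI false
set_option backward.isDefEq.respectTransparency false
universe u

open CategoryTheory CategoryTheory.Limits MonoidalCategory CartesianMonoidalCategory MonObj GrpObj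
  AlgebraicGeometry Groth.Agent.H19Grp

namespace Groth.Agent.H02CA.HomIso

variable {k : Type u} [Field k] {K : Type u} [Field K] [Algebra k K] [IsAlgClosure k K]

/-- A closed point underlies a geometric point. -/
theorem exists_geomPoint (X : Over (Spec (CommRingCat.of k))) [LocallyOfFiniteType X.hom] (x : X.left)
    (hx : IsClosed {x}) :
    ∃ p : Over.mk (Spec.map (CommRingCat.ofHom (algebraMap k K))) ⟶ X, p.left (IsLocalRing.closedPoint K) = x := by
  haveI := isClosed_singleton_iff_isClosedImmersion.1 hx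
  haveI hfin : IsFinite (X.left.fromSpecResidueField x ≫ X.hom) :=
    isFinite_iff_locallyOfFiniteType_of_jacobsonSpace.2 inferInstance
  obtain ⟨φ, hφ⟩ := Spec.map_surjective (X.left.fromSpecResidueField x ≫ X.hom)
  rw [← hφ, IsFinite.SpecMap_iff] at hfin
  letI : Algebra k (X.left.residueField x) := φ.hom.toAlgebra
  haveI : Module.Finite k (X.left.residueField x) := hfin
  haveI : IsAlgClosed K := IsAlgClosure.isAlgClosed k
  let σ : X.left.residueField x →ₐ[k] K := IsAlgClosed.lift
  refine ⟨Over.homMk (Spec.map (CommRingCat.ofHom σ.toRingHom) ≫ X.left.fromSpecResidueField x) ?_, ?_⟩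
  · show (_ ≫ _) ≫ X.hom = Spec.map (CommRingCat.ofHom (algebraMap k K))
    rw [Category.assoc, ← hφ, ← Spec.map_comp]
    congr 1
    ext a
    exact σ.commutes a
  · show (Spec.map (CommRingCat.ofHom σ.toRingHom) ≫ X.left.fromSpecResidueField x) _ = x
    exact (Scheme.Hom.comp_apply _ _ _).trans (Scheme.fromSpecResidueField_apply _ _)

/-- An affine scheme with one point which is of finite type over a field is finite. -/
theorem isFinite_of_subsingleton {X : Scheme.{u}} (f : X ⟶ Spec (CommRingCat.of k)) [LocallyOfFiniteType f]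
    [IsAffine X] [Subsingleton X] : IsFinite f := by
  rw [← MorphismProperty.cancel_left_of_respectsIso (P := @IsFinite) X.isoSpec.inv]
  haveI hlft : LocallyOfFiniteType (X.isoSpec.inv ≫ f) := inferInstance
  obtain ⟨φ, hφ⟩ := Spec.map_surjective (X.isoSpec.inv ≫ f)
  rw [← hφ, HasRingHomProperty.Spec_iff (P := @LocallyOfFiniteType)] at hlft
  rw [← hφ, IsFinite.SpecMap_iff]
  letI : Algebra k Γ(X, ⊤) := φ.hom.toAlgebra
  haveI : Algebra.FiniteType k Γ(X, ⊤) := hlft
  haveI : Subsingleton (PrimeSpectrum Γ(X, ⊤)) :=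
    X.isoSpec.inv.homeomorph.injective.subsingleton
  haveI : Ring.KrullDimLE 0 Γ(X, ⊤) := Ring.KrullDimLE.mk₀ fun P hP => by
    obtain ⟨M, hM, hPM⟩ := Ideal.exists_le_maximal P hP.ne_top
    have h := Subsingleton.elim (⟨P, hP⟩ : PrimeSpectrum Γ(X, ⊤)) ⟨M, hM.isPrime⟩
    have h' : P = M := congrArg PrimeSpectrum.asIdeal h
    rw [h']
    exact hM
  exact (Module.finite_iff_krullDimLE_zero (R := k) (A := Γ(X, ⊤))).2 ‹_›

section

variable {G H : Over (Spec (CommRingCat.of k))} [GrpObj G] [GrpObj H] [LocallyOfFiniteType G.hom] (ψ : G ⟶ H)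
  [IsMonHom ψ] [LocallyOfFiniteType H.hom]
  (hpts : Function.Bijective fun x : Over.mk (Spec.map (CommRingCat.ofHom (algebraMap k K))) ⟶ G => x ≫ ψ)

include hpts in
/-- The kernel is finite. -/
theorem isFinite_ker_hom [IsAffine G.left] : IsFinite (KernelGrp.ker ψ).hom := by
  let N := KernelGrp.ker ψ
  haveI : IsClosedImmersion (η[H]).left := isClosedImmersion_of_comp_eq_id H.hom _ (Over.w η[H])
  haveI : IsClosedImmersion (KernelGrp.incl ψ).left :=
    inferInstanceAs (IsClosedImmersion (pullback.fst ψ.left (η[H]).left))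
  haveI : LocallyOfFiniteType N.hom := by
    rw [← Over.w (KernelGrp.incl ψ)]
    infer_instance
  have hker := KernelGrp.isKernel ψ
  have hone : ∀ x : N.left, IsClosed {x} →
      (KernelGrp.incl ψ).left x = (1 : Over.mk (Spec.map (CommRingCat.ofHom (algebraMap k K))) ⟶ G).left
        (IsLocalRing.closedPoint K) := by
    intro x hx
    obtain ⟨p, rfl⟩ := exists_geomPoint (K := K) N x hx
    have h1 : (p ≫ KernelGrp.incl ψ) ≫ ψ = (1 : Over.mk (Spec.map (CommRingCat.ofHom (algebraMap k K))) ⟶ G) ≫ ψ := by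
      rw [Category.assoc, kernel_comp_eq_one hker, MonObj.comp_one, MonObj.one_comp]
    rw [← hpts.injective h1]
    rfl
  haveI := LocallyOfFiniteType.jacobsonSpace N.hom
  have hsub : (closedPoints N.left).Subsingleton := fun a ha b hb =>
    (KernelGrp.incl ψ).left.isClosedEmbedding.injective ((hone a ha).trans (hone b hb).symm)
  haveI : Subsingleton N.left := by
    refine Set.subsingleton_univ_iff.1 ?_
    rcases hsub.eq_empty_or_singleton with h | ⟨x, h⟩
    · rw [← closure_closedPoints, h, closure_empty]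
      exact Set.subsingleton_empty
    · have hx : IsClosed ({x} : Set N.left) := show x ∈ closedPoints N.left by rw [h]; rfl
      rw [← closure_closedPoints, h, hx.closure_eq]
      exact Set.subsingleton_singleton
  haveI : IsAffine N.left := isAffine_of_isAffineHom (KernelGrp.incl ψ).left
  exact isFinite_of_subsingleton N.hom

include hpts in
theorem surjective_left [QuasiCompact ψ.left] [IsClosedImmersion ψ.left] : Surjective ψ.left := by
  haveI := LocallyOfFiniteType.jacobsonSpace H.hom
  refine ⟨fun y => ?_⟩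
  have h : closedPoints H.left ⊆ Set.range ψ.left := fun z hz => by
    obtain ⟨p, rfl⟩ := exists_geomPoint (K := K) H z hz
    obtain ⟨x, rfl⟩ := hpts.surjective p
    exact ⟨x.left (IsLocalRing.closedPoint K), (Scheme.Hom.comp_apply _ _ _).symm⟩
  have h2 := closure_minimal h ψ.left.isClosedEmbedding.isClosed_range
  rw [closure_closedPoints] at h2
  exact h2 (Set.mem_univ y)

end

/-- A ring map whose kernel is killed by `s` becomes flat after inverting `s`, when it is surjective. -/
theorem flat_comp_away {B A : Type u} [CommRing B] [CommRing A] (φ : B →+* A) (hφ : Function.Surjective φ) (s : B)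
    (hs : ∀ x, φ x = 0 → s * x = 0) :
    ((algebraMap A (Localization.Away (φ s))).comp φ).Flat := by
  let L := Localization.awayMap φ s
  have hL : Function.Bijective L := by
    refine ⟨(injective_iff_map_eq_zero _).2 fun x hx => ?_, fun y => ?_⟩
    · obtain ⟨b, ⟨_, n, rfl⟩, rfl⟩ := IsLocalization.exists_mk'_eq (Submonoid.powers s) x
      rw [show L = IsLocalization.Away.map _ _ φ s from rfl, IsLocalization.Away.map, IsLocalization.map_mk',
        IsLocalization.mk'_eq_zero_iff] at hx
      obtain ⟨⟨_, m, rfl⟩, hm⟩ := hx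
      rw [IsLocalization.mk'_eq_zero_iff]
      refine ⟨⟨s ^ (m + 1), m + 1, rfl⟩, ?_⟩
      show s ^ (m + 1) * b = 0
      rw [pow_succ', _root_.mul_assoc]
      exact hs _ (by rw [map_mul, map_pow]; exact hm)
    · obtain ⟨a, ⟨_, n, rfl⟩, rfl⟩ := IsLocalization.exists_mk'_eq (Submonoid.powers (φ s)) y
      obtain ⟨b, rfl⟩ := hφ a
      refine ⟨IsLocalization.mk' (Localization.Away s) b (⟨s ^ n, n, rfl⟩ : Submonoid.powers s), ?_⟩
      rw [show L = IsLocalization.Away.map _ _ φ s from rfl, IsLocalization.Away.map, IsLocalization.map_mk']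
      congr 1
      exact Subtype.ext (map_pow φ s n)
  have h : (algebraMap A (Localization.Away (φ s))).comp φ = L.comp (algebraMap B (Localization.Away s)) := by
    rw [show L = IsLocalization.Away.map _ _ φ s from rfl, IsLocalization.Away.map, IsLocalization.map_comp]
  rw [h]
  exact RingHom.Flat.comp (RingHom.flat_algebraMap_iff.2 (IsLocalization.flat _ (Submonoid.powers s)))
    (RingHom.Flat.of_bijective hL)

section

variable {G H : Over (Spec (CommRingCat.of k))} [GrpObj G] [IsCommMonObj G] [GrpObj H] [IsCommMonObj H]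
  (ψ : G ⟶ H) [IsMonHom ψ]
  [IsAffine G.left] [IsAffine H.left] [LocallyOfFiniteType G.hom] [LocallyOfFiniteType H.hom]

/-- The augmentation ideal of an affine group. -/
noncomputable def augIdeal (H : Over (Spec (CommRingCat.of k))) [GrpObj H] : Ideal Γ(H.left, ⊤) :=
  RingHom.ker (η[H]).left.appTop.hom

/-- Liftability of finite subgroups puts the kernel in all Frobenius powers of the augmentation ideal. -/
theorem ker_le_pow (p : ℕ) [Fact p.Prime] [CharP k p] (r : ℕ)
    (hsurj : ∀ (I : Over (Spec (CommRingCat.of k))) [GrpObj I] [IsCommMonObj I] [IsFinite I.hom]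
      (h : I ⟶ H) [IsMonHom h], ∃ f : I ⟶ G, IsMonHom f ∧ f ≫ ψ = h) :
    RingHom.ker ψ.left.appTop.hom ≤ augIdeal H ^ (p ^ r) := by
  haveI : FrobSch.IsCharP H.left p := FrobSch.IsCharP.of_hom H.hom p
  let F := FrobPow.frobN p r (Spec (CommRingCat.of k))
  let P := (Over.pullback F).obj H
  letI : GrpObj P := Functor.grpObjObj
  haveI : LocallyOfFiniteType P.hom := by dsimp [P]; infer_instance
  let q := FrobPow.relFrobN p r _ H
  haveI : IsMonHom q := FrobPow.isMonHom_relFrobN p r _ H
  haveI : LocallyOfFiniteType q.left := by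
    haveI : LocallyOfFiniteType (q.left ≫ P.hom) := by rw [Over.w q]; infer_instance
    exact locallyOfFiniteType_of_comp q.left P.hom
  haveI : IsIntegralHom q.left := by
    haveI : IsIntegralHom (q.left ≫ pullback.fst H.hom F) := by rw [FrobPow.relFrobN_fst]; infer_instance
    haveI : IsIntegralHom (pullback.fst H.hom F) := MorphismProperty.pullback_fst _ _ inferInstance
    exact IsIntegralHom.of_comp q.left (pullback.fst H.hom F)
  haveI : IsFinite q.left := (IsFinite.iff_isIntegralHom_and_locallyOfFiniteType _).mpr ⟨inferInstance, inferInstance⟩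
  have hinj : Function.Injective q.left := fun a b hab => by
    have h' : (q.left ≫ pullback.fst H.hom F) a = (q.left ≫ pullback.fst H.hom F) b :=
      congrArg (pullback.fst H.hom F) hab
    rw [FrobPow.relFrobN_fst] at h'
    exact h'
  obtain ⟨N, gN, j, hj, hker, hfin, hcl, -⟩ := S18320.exists_kernel q hinj
  haveI : Mono j := Over.mono_of_mono_left _
  haveI : IsCommMonObj N := ⟨by
    rw [← cancel_mono j, Category.assoc, IsMonHom.mul_hom j, ← Category.assoc,
      ← BraidedCategory.braiding_naturality, Category.assoc, IsCommMonObj.mul_comm]⟩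
  obtain ⟨f, -, hf⟩ := hsurj N j
  let π := Ideal.Quotient.mk (augIdeal H ^ (p ^ r))
  let T₀ := Spec (CommRingCat.of (Γ(H.left, ⊤) ⧸ augIdeal H ^ (p ^ r)))
  let t₀ : T₀ ⟶ H.left := Spec.map (CommRingCat.ofHom π) ≫ H.left.isoSpec.inv
  have ht₀ : ∀ b, t₀.appTop b = (Scheme.ΓSpecIso (CommRingCat.of (Γ(H.left, ⊤) ⧸ augIdeal H ^ (p ^ r)))).inv (π b) := by
    intro b
    have : t₀.appTop = CommRingCat.ofHom π ≫ (Scheme.ΓSpecIso _).inv := by
      have h0 : t₀ ≫ H.left.isoSpec.hom = Spec.map (CommRingCat.ofHom π) := by simp [t₀]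
      have h1 := congrArg Scheme.Hom.appTop h0
      rw [Scheme.Hom.comp_appTop, Scheme.isoSpec_hom, Scheme.toSpecΓ_appTop] at h1
      rw [Scheme.ΓSpecIso_inv_naturality, ← h1]
      exact (Iso.inv_hom_id_assoc _ _).symm
    rw [this]
    rfl
  let T : Over (Spec (CommRingCat.of k)) := Over.mk (t₀ ≫ H.hom)
  let t : T ⟶ H := Over.homMk t₀ rfl
  have htq : t ≫ q = (1 : T ⟶ P) := by
    rw [← MonObj.one_comp q]
    apply Over.OverMorphism.ext
    haveI : FrobSch.IsCharP T₀ p := FrobSch.IsCharP.of_hom T.hom p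
    haveI : FrobSch.IsCharP T.left p := ‹FrobSch.IsCharP T₀ p›
    refine pullback.hom_ext ?_ ?_
    · show (t ≫ q).left ≫ pullback.fst H.hom F = ((1 : T ⟶ H) ≫ q).left ≫ pullback.fst H.hom F
      rw [Over.comp_left, Over.comp_left, Category.assoc, Category.assoc, FrobPow.relFrobN_fst]
      show t₀ ≫ _ = (1 : T ⟶ H).left ≫ _
      rw [← FrobPow.frobN_comp p r t₀, ← FrobPow.frobN_comp p r (1 : T ⟶ H).left]
      apply ext_of_isAffine
      ext b
      rw [Scheme.Hom.comp_appTop, Scheme.Hom.comp_appTop]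
      show (FrobPow.frobN p r T.left).app ⊤ (t₀.appTop b) = (FrobPow.frobN p r T.left).app ⊤ ((1 : T ⟶ H).left.appTop b)
      rw [FrobPow.frobN_app, FrobPow.frobN_app]
      have h1 : (1 : T ⟶ H).left.appTop b = t₀.appTop (H.hom.appTop ((η[H]).left.appTop b)) := by
        rw [Hom.one_def]
        rfl
      have hm : b - H.hom.appTop ((η[H]).left.appTop b) ∈ augIdeal H := by
        have h2 : ∀ a, (η[H]).left.appTop (H.hom.appTop a) = a := fun a => by
          have h3 := congrArg Scheme.Hom.appTop (Over.w η[H])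
          rw [Scheme.Hom.comp_appTop] at h3
          exact congrArg (fun g => g a) h3
        show (η[H]).left.appTop _ = 0
        rw [map_sub, h2, sub_self]
      rw [h1]
      haveI : Nontrivial Γ(Spec (CommRingCat.of k), ⊤) :=
        (Scheme.ΓSpecIso (CommRingCat.of k)).commRingCatIsoToRingEquiv.toEquiv.nontrivial
      haveI : Nontrivial Γ((𝟙_ (Over (Spec (CommRingCat.of k)))).left, ⊤) := ‹Nontrivial Γ(Spec (CommRingCat.of k), ⊤)›
      haveI : Nontrivial Γ(H.left, ⊤) := RingHom.domain_nontrivial (η[H]).left.appTop.hom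
      haveI : CharP Γ(H.left, ⊤) p :=
        charP_of_injective_ringHom ((Scheme.ΓSpecIso (CommRingCat.of k)).inv ≫ H.hom.appTop).hom.injective p
      refine (map_pow t₀.appTop.hom b (p ^ r)).symm.trans (Eq.trans ?_ (map_pow t₀.appTop.hom _ (p ^ r)))
      refine sub_eq_zero.1 ((map_sub t₀.appTop.hom _ _).symm.trans ?_)
      rw [← sub_pow_char_pow]
      refine (ht₀ _).trans ?_
      rw [Ideal.Quotient.eq_zero_iff_mem.2 (Ideal.pow_mem_pow hm _), map_zero]
    · exact (Over.w (t ≫ q)).trans (Over.w ((1 : T ⟶ H) ≫ q)).symm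
  obtain ⟨l, hl⟩ := kernel_lift hker t htq
  intro b hb
  rw [RingHom.mem_ker] at hb
  have h4 : t₀.appTop b = 0 := by
    have h5 : t.left = (l ≫ f).left ≫ ψ.left := by rw [← Over.comp_left, Category.assoc, hf, hl]
    rw [show t₀ = (l ≫ f).left ≫ ψ.left from h5, Scheme.Hom.comp_appTop]
    show (l ≫ f).left.appTop (ψ.left.appTop b) = 0
    rw [hb, map_zero]
  rw [ht₀, map_eq_zero_iff _ (ConcreteCategory.bijective_of_isIso _).1, Ideal.Quotient.eq_zero_iff_mem] at h4
  exact h4

/-- A closed subgroup containing all Frobenius neighbourhoods of the identity is open. -/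
theorem flat_of_ker_le_pow (p : ℕ) (hp : 1 < p) [IsClosedImmersion ψ.left]
    (hle : ∀ r, RingHom.ker ψ.left.appTop.hom ≤ augIdeal H ^ (p ^ r)) : Flat ψ.left := by
  haveI : IsLocallyNoetherian H.left := LocallyOfFiniteType.isLocallyNoetherian H.hom
  haveI : IsNoetherianRing Γ(H.left, ⊤) := IsLocallyNoetherian.component_noetherian ⟨⊤, isAffineOpen_top _⟩
  let φ := ψ.left.appTop.hom
  let m := augIdeal H
  have hη : (η[G]).left.appTop.hom.comp φ = (η[H]).left.appTop.hom := by
    rw [← IsMonHom.one_hom ψ, Over.comp_left, Scheme.Hom.comp_appTop]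
    rfl
  haveI : Nontrivial Γ(Spec (CommRingCat.of k), ⊤) :=
    (Scheme.ΓSpecIso (CommRingCat.of k)).commRingCatIsoToRingEquiv.toEquiv.nontrivial
  obtain ⟨s, hsm, hs⟩ : ∃ s, (η[H]).left.appTop s = 1 ∧ ∀ x, φ x = 0 → s * x = 0 := by
    obtain ⟨S, hS⟩ := IsNoetherian.noetherian (RingHom.ker φ)
    have : ∀ x ∈ RingHom.ker φ, ∃ r : m, (r : Γ(H.left, ⊤)) • x = x := fun x hx => by
      refine (Ideal.mem_iInf_smul_pow_eq_bot_iff m x).1 ((Submodule.mem_iInf _).2 fun i => ?_)
      rw [smul_eq_mul, Ideal.mul_top]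
      exact Ideal.pow_le_pow_right (Nat.lt_pow_self hp).le (hle i hx)
    classical
    choose r hr using this
    refine ⟨∏ x ∈ S.attach, (1 - (r x.1 (hS ▸ Submodule.subset_span x.2) : Γ(H.left, ⊤))), ?_, ?_⟩
    · rw [map_prod]
      refine Finset.prod_eq_one fun x _ => ?_
      rw [map_sub, map_one]
      have := RingHom.mem_ker.1 (show _ ∈ RingHom.ker (η[H]).left.appTop.hom from (r x.1 (hS ▸ Submodule.subset_span x.2)).2)
      rw [show (η[H]).left.appTop _ = 0 from this, sub_zero]
    · intro x hx
      have hx' : x ∈ Submodule.span Γ(H.left, ⊤) (S : Set Γ(H.left, ⊤)) := hS ▸ (RingHom.mem_ker.2 hx)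
      clear hx
      induction hx' using Submodule.span_induction with
      | mem y hy =>
        rw [← Finset.mul_prod_erase _ _ (Finset.mem_attach S ⟨y, hy⟩), mul_comm (_ - _), _root_.mul_assoc]
        rw [sub_mul, _root_.one_mul, show _ * y = y from hr y _, sub_self, MulZeroClass.mul_zero]
      | zero => rw [MulZeroClass.mul_zero]
      | add a b _ _ ha hb => rw [mul_add, ha, hb, add_zero]
      | smul c a _ ha => rw [smul_eq_mul, mul_left_comm, ha, MulZeroClass.mul_zero]
  haveI : Nontrivial (Localization.Away (φ s)) := by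
    rw [← not_subsingleton_iff_nontrivial, IsLocalization.subsingleton_iff (M := Submonoid.powers (φ s))]
    rintro ⟨n, hn⟩
    have h1 := congrArg (η[G]).left.appTop.hom hn
    rw [map_pow, map_zero, show (η[G]).left.appTop.hom (φ s) = (η[G]).left.appTop.hom.comp φ s from rfl, hη] at h1
    rw [show (η[H]).left.appTop.hom s = 1 from hsm, one_pow] at h1
    exact one_ne_zero (α := Γ(Spec (CommRingCat.of k), ⊤)) h1
  let ι' := Spec.map (CommRingCat.ofHom (algebraMap Γ(G.left, ⊤) (Localization.Away (φ s)))) ≫ G.left.isoSpec.inv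
  have hflat : Flat (ι' ≫ ψ.left) := by
    rw [show ι' ≫ ψ.left = Spec.map (CommRingCat.ofHom ((algebraMap Γ(G.left, ⊤) (Localization.Away (φ s))).comp φ)) ≫
        H.left.isoSpec.inv by
      simp only [ι', Category.assoc, CommRingCat.ofHom_comp, Spec.map_comp]
      rw [← Scheme.isoSpec_inv_naturality]
      rfl]
    haveI : Flat (Spec.map (CommRingCat.ofHom ((algebraMap Γ(G.left, ⊤) (Localization.Away (φ s))).comp φ))) := by
      rw [HasRingHomProperty.Spec_iff (P := @Flat)]
      exact flat_comp_away φ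
        (ψ.left.app_surjective ⊤ (isAffineOpen_top _)) s hs
    infer_instance
  haveI : Flat (ι'.opensRange.ι ≫ ψ.left) := by
    rw [← Scheme.Hom.isoOpensRange_inv_comp ι', Category.assoc]
    infer_instance
  exact flat_of_flat_open ψ ι'.opensRange ⟨ι' (Classical.arbitrary _), ⟨_, rfl⟩⟩

end

end Groth.Agent.H02CA.HomIso
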